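import Mathlib.GroupTheory.PGroup
import Mathlib.GroupTheory.Sylow
import Mathlib.GroupTheory.Index
import Mathlib.GroupTheory.Solvable
import Mathlib.GroupTheory.IsPerfect
import Mathlib.GroupTheory.Perm.Finite
import Mathlib.Data.Finite.Perm
import Mathlib.GroupTheory.QuotientGroup.Basic
import Mathlib.Tactic
import Cfsg.Agent.Characters.Burnside

/-!
A 2-group with exactly three elements of order two has a solvable automorphism group.
-/

set_option autoImplicit false

namespace CfsgLib.InvolutionChar.ThreeInvolutions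

open scoped commutatorElement

/-- A homomorphism from a perfect group is trivial if the order of its image has at most two
prime divisors. -/
theorem hom_eq_one_of_dvd {P H : Type*} [Group P] [Group H] [Finite H] (hP : Group.IsPerfect P)
    (f : P →* H) (p q a b : ℕ) (hp : p.Prime) (hq : q.Prime)
    (hcard : Nat.card f.range ∣ p ^ a * q ^ b) (x : P) : f x = 1 := by
  haveI := hP
  have hs : Group.IsSolvable f.range :=
    CfsgLib.Characters.isSolvable_of_card_eq_primePow_mul p q a b hp hq hcard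
  obtain ⟨n, hn⟩ := hs.solvable
  have hmap : ∀ m, derivedSeries f.range m = ⊤ := by
    intro m; induction m with
    | zero => rfl
    | succ m ih =>
      rw [derivedSeries_succ, ih, ← Subgroup.map_top_of_surjective f.rangeRestrict
        f.rangeRestrict_surjective, ← Subgroup.map_commutator, ← commutator_def,
        Group.IsPerfect.commutator_eq_top]
  rw [hmap] at hn
  have : f.rangeRestrict x = 1 := Subgroup.mem_bot.1 (hn ▸ Subgroup.mem_top _)
  exact congrArg Subtype.val this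

/-- The set of permutations of a small set: images of perfect groups are trivial. -/
theorem perm_eq_one_of_card_le_four {P α : Type*} [Group P] [Finite α] (hP : Group.IsPerfect P)
    (f : P →* Equiv.Perm α) (h : Nat.card α ≤ 4) (x : P) : f x = 1 := by
  refine hom_eq_one_of_dvd hP f 2 3 3 1 Nat.prime_two Nat.prime_three ?_ x
  refine (Subgroup.card_subgroup_dvd_card f.range).trans ?_
  rw [Nat.card_perm]
  interval_cases (Nat.card α) <;> norm_num [Nat.factorial]

variable {X : Type*} [Group X]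

/-- Index bound: outside `F`, squares avoid the subgroup `K` of index two. -/
theorem index_le_four [Finite X] {Y F N K : Subgroup X} (_hFY : F ≤ Y)
    (hsq : ∀ y ∈ Y, y * y ∈ N) (hcomm : ∀ y ∈ Y, ∀ w ∈ Y, ⁅y, w⁆ ∈ N)
    (hNcent : ∀ n ∈ N, ∀ y ∈ Y, n * y = y * n) (_hKN : K ≤ N)
    (hK2 : ∀ a ∈ N, ∀ b ∈ N, a ∉ K → b ∉ K → a * b ∈ K)
    (hout : ∀ y ∈ Y, y ∉ F → y * y ∉ K) (hF2 : ∀ y ∈ Y, y * y ∈ F) :
    Nat.card ↥Y ≤ 4 * Nat.card ↥F := by
  classical
  by_cases hYF : Y ≤ F
  · have := Subgroup.card_le_of_le hYF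
    omega
  obtain ⟨x, hxY, hxF⟩ := SetLike.not_le_iff_exists.1 hYF
  -- the elements whose commutator with `x` lies in `K`
  have key : ∀ z ∈ Y, ⁅z, x⁆ ∈ K → z ∈ F ∨ x⁻¹ * z ∈ F := by
    intro z hz hzx
    by_cases hzF : z ∈ F
    · exact Or.inl hzF
    right
    have hprod : (x * z) * (x * z) ∈ K := by
      have h1 : (x * z) * (x * z) = ⁅z, x⁆ * ((x * x) * (z * z)) := by
        have hc := hNcent _ (hcomm z hz x hxY) x hxY
        simp only [commutatorElement_def] at hc ⊢
        calc (x * z) * (x * z) = (x * (z * x * z⁻¹ * x⁻¹)) * x * z * z := by group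
          _ = _ := by rw [← hc]; group
      rw [h1]
      exact mul_mem hzx (hK2 _ (hsq x hxY) _ (hsq z hz) (hout x hxY hxF) (hout z hz hzF))
    have hxzF : x * z ∈ F := by
      by_contra h
      exact hout _ (mul_mem hxY hz) h hprod
    have h2 : x⁻¹ * z = (x * x)⁻¹ * (x * z) := by group
    rw [h2]; exact mul_mem (inv_mem (hF2 x hxY)) hxzF
  -- four translates of `F` cover `Y`
  obtain ⟨w, hw⟩ : ∃ w ∈ Y, ∀ z ∈ Y, ⁅z, x⁆ ∈ K ∨ ⁅w⁻¹ * z, x⁆ ∈ K := by
    by_cases hall : ∀ z ∈ Y, ⁅z, x⁆ ∈ K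
    · exact ⟨1, Y.one_mem, fun z hz => Or.inl (hall z hz)⟩
    push Not at hall
    obtain ⟨w, hwY, hwK⟩ := hall
    refine ⟨w, hwY, fun z hz => ?_⟩
    by_cases hzK : ⁅z, x⁆ ∈ K
    · exact Or.inl hzK
    right
    have hadd : ∀ a ∈ Y, ∀ b ∈ Y, ⁅a * b, x⁆ = ⁅a, x⁆ * ⁅b, x⁆ := by
      intro a ha b hb
      have h1 := hNcent _ (hcomm b hb x hxY) a ha
      have h2 := hNcent _ (hcomm b hb x hxY) _ (mul_mem (mul_mem (mul_mem ha hxY) (inv_mem ha))
        (inv_mem hxY))
      simp only [commutatorElement_def] at h1 h2 ⊢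
      calc a * b * x * (a * b)⁻¹ * x⁻¹ = (a * (b * x * b⁻¹ * x⁻¹)) * (x * a⁻¹ * x⁻¹) := by group
        _ = (b * x * b⁻¹ * x⁻¹) * (a * x * a⁻¹ * x⁻¹) := by rw [← h1]; group
        _ = _ := h2
    rw [hadd _ (inv_mem hwY) _ hz]
    refine hK2 _ (hcomm _ (inv_mem hwY) x hxY) _ (hcomm z hz x hxY) (fun h => hwK ?_) hzK
    have h3 := hadd w hwY w⁻¹ (inv_mem hwY)
    rw [mul_inv_cancel, commutatorElement_one_left] at h3
    rw [eq_inv_of_mul_eq_one_left h3.symm]; exact inv_mem h
  let f : Bool × Bool × ↥F → X := fun p =>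
    (if p.1 then w else 1) * ((if p.2.1 then x else 1) * (p.2.2 : X))
  have hsub : (Y : Set X) ⊆ Set.range f := by
    intro z hz
    rcases hw.2 z hz with h | h
    · rcases key z hz h with h1 | h1
      · exact ⟨(false, false, ⟨z, h1⟩), by simp [f]⟩
      · exact ⟨(false, true, ⟨_, h1⟩), by simp [f]⟩
    · rcases key _ (mul_mem (inv_mem hw.1) hz) h with h1 | h1
      · exact ⟨(true, false, ⟨_, h1⟩), by simp [f]⟩
      · exact ⟨(true, true, ⟨_, h1⟩), by simp [f]⟩
  calc Nat.card ↥Y ≤ Nat.card (Set.range f) :=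
        Nat.card_mono (Set.toFinite _) hsub
    _ ≤ Nat.card (Bool × Bool × ↥F) := Finite.card_range_le f
    _ = 4 * Nat.card ↥F := by simp [Nat.card_prod]; omega

/-- The sum of the signs of the squares is an integer whose square is `|Y| * |N|`. -/
theorem exists_sq_eq_card_mul [Finite X] {Y N K : Subgroup X} (hNY : N ≤ Y)
    (hsq : ∀ y ∈ Y, y * y ∈ N) (hcomm : ∀ y ∈ Y, ∀ w ∈ Y, ⁅y, w⁆ ∈ N)
    (hNcent : ∀ n ∈ N, ∀ y ∈ Y, n * y = y * n) (hK : ∀ a ∈ N, ∀ b ∈ N, a ∉ K → b ∉ K → a * b ∈ K)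
    (hN1 : ∀ n ∈ N, n * n = 1)
    (hrad : ∀ y ∈ Y, (∀ w ∈ Y, ⁅w, y⁆ ∈ K) → y ∈ N) :
    ∃ s : ℤ, s * s = (Nat.card ↥Y : ℤ) * Nat.card ↥N := by
  classical
  letI := Fintype.ofFinite ↥Y
  let sg : X → ℤ := fun a => if a ∈ K then 1 else -1
  have hsg : ∀ a ∈ N, ∀ b ∈ N, sg (a * b) = sg a * sg b := by
    intro a ha b hb
    by_cases h1 : a ∈ K <;> by_cases h2 : b ∈ K
    · simp [sg, h1, h2, mul_mem h1 h2]
    · simp [sg, h1, h2, Subgroup.mul_mem_cancel_left K h1]
    · simp [sg, h1, h2, Subgroup.mul_mem_cancel_right K h2]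
    · simp [sg, h1, h2, hK a ha b hb h1 h2]
  let ep : ↥Y → ℤ := fun y => sg ((y : X) * y)
  let be : ↥Y → ↥Y → ℤ := fun u w => sg ⁅(w : X), (u : X)⁆
  have hep : ∀ u w : ↥Y, ep (u * w) = be u w * (ep u * ep w) := by
    intro u w
    have h1 : ((u : X) * w) * ((u : X) * w) = ⁅(w : X), (u : X)⁆ * (((u : X) * u) * ((w : X) * w)) := by
      have hc := hNcent _ (hcomm _ w.2 _ u.2) _ u.2
      simp only [commutatorElement_def] at hc ⊢
      calc ((u : X) * w) * ((u : X) * w)
          = ((u : X) * ((w : X) * u * (w : X)⁻¹ * (u : X)⁻¹)) * u * w * w := by group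
        _ = _ := by rw [← hc]; group
    show sg (((u : X) * w) * ((u : X) * w)) = _
    rw [h1, hsg _ (hcomm _ w.2 _ u.2) _ (mul_mem (hsq _ u.2) (hsq _ w.2)),
      hsg _ (hsq _ u.2) _ (hsq _ w.2)]
  have hep2 : ∀ u : ↥Y, ep u * ep u = 1 := fun u => by simp only [ep, sg]; split_ifs <;> simp
  have hbe : ∀ u v w : ↥Y, be (u * v) w = be u w * be v w := by
    intro u v w
    show sg ⁅(w : X), (u : X) * v⁆ = _
    rw [← hsg _ (hcomm _ w.2 _ u.2) _ (hcomm _ w.2 _ v.2)]
    congr 1
    have hc := hNcent _ (hcomm _ w.2 _ v.2) _ (inv_mem u.2)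
    simp only [commutatorElement_def] at hc ⊢
    calc (w : X) * ((u : X) * v) * (w : X)⁻¹ * ((u : X) * v)⁻¹
        = (w : X) * u * (w : X)⁻¹ * (((w : X) * v * (w : X)⁻¹ * (v : X)⁻¹) * (u : X)⁻¹) := by group
      _ = (w : X) * u * (w : X)⁻¹ *
          ((u : X)⁻¹ * ((w : X) * v * (w : X)⁻¹ * (v : X)⁻¹)) := by
        rw [hc]
      _ = _ := by group
  let N' := Finset.univ.filter (fun w : ↥Y => (w : X) ∈ N)
  have hsum : ∀ w : ↥Y, ∑ u : ↥Y, be u w = if (w : X) ∈ N then (Nat.card ↥Y : ℤ) else 0 := by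
    intro w
    split_ifs with hw
    · have h1 : ∀ u : ↥Y, be u w = 1 := fun u => by
        have : ⁅(w : X), (u : X)⁆ = 1 :=
          commutatorElement_eq_one_iff_mul_comm.2 (hNcent _ hw _ u.2)
        show sg ⁅(w : X), (u : X)⁆ = 1
        rw [this]; simp [sg]
      simp [h1, Nat.card_eq_fintype_card]
    · obtain ⟨v, hv⟩ : ∃ v : ↥Y, be v w = -1 := by
        by_contra h
        push Not at h
        apply hw
        apply hrad _ w.2
        intro v hv
        by_contra hvK
        apply h ⟨v, hv⟩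
        have : ⁅(w : X), v⁆ ∉ K := by rw [← commutatorElement_inv, inv_mem_iff]; exact hvK
        simp [be, sg, this]
      have h1 : ∑ u : ↥Y, be u w = ∑ u : ↥Y, be (v * u) w :=
        (Equiv.sum_comp (Equiv.mulLeft v) (fun u => be u w)).symm
      simp only [hbe, hv, neg_one_mul, Finset.sum_neg_distrib] at h1
      omega
  refine ⟨∑ y : ↥Y, ep y, ?_⟩
  calc (∑ u : ↥Y, ep u) * ∑ v : ↥Y, ep v = ∑ u : ↥Y, ∑ w : ↥Y, ep u * ep (u * w) := by
        rw [Finset.sum_mul]
        refine Finset.sum_congr rfl fun u _ => ?_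
        rw [Finset.mul_sum]
        exact (Equiv.sum_comp (Equiv.mulLeft u) (fun v => ep u * ep v)).symm
    _ = ∑ w : ↥Y, ep w * ∑ u : ↥Y, be u w := by
        rw [Finset.sum_comm]
        refine Finset.sum_congr rfl fun w _ => ?_
        rw [Finset.mul_sum]
        refine Finset.sum_congr rfl fun u _ => ?_
        rw [hep]
        calc ep u * (be u w * (ep u * ep w)) = (ep u * ep u) * (ep w * be u w) := by ring
          _ = _ := by rw [hep2, one_mul]
    _ = ∑ w ∈ N', (Nat.card ↥Y : ℤ) := by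
        rw [Finset.sum_filter]
        refine Finset.sum_congr rfl fun w _ => ?_
        rw [hsum]
        split_ifs with hw
        · simp [ep, sg, hN1 _ hw]
        · rw [mul_zero]
    _ = _ := by
        rw [Finset.sum_const, nsmul_eq_mul, mul_comm]
        congr 2
        rw [← Fintype.card_subtype, ← Nat.card_eq_fintype_card]
        exact Nat.card_congr ((Equiv.subtypeSubtypeEquivSubtype (fun h => hNY h)).trans (Equiv.refl _))

/-- A permutation of three-power order of a set with at most five elements moves at most three of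
them; in particular it is trivial or fixes exactly two points when there are five. -/
theorem card_fixed_of_five {α : Type*} [Finite α] (σ : Equiv.Perm α) (k : ℕ) (hσ : σ ^ 3 ^ k = 1)
    (h5 : Nat.card α = 5) :
    Nat.card {a : α // σ a = a} = 2 ∨ σ = 1 := by
  haveI : Fact (Nat.Prime 3) := ⟨Nat.prime_three⟩
  have hp : IsPGroup 3 ↥(Subgroup.zpowers σ) := by
    rintro ⟨_, i, rfl⟩
    refine ⟨k, Subtype.ext ?_⟩
    show (σ ^ i) ^ (3 ^ k : ℕ) = 1
    rw [← zpow_natCast (σ ^ i), ← zpow_mul, mul_comm, zpow_mul, zpow_natCast, hσ, one_zpow]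
  have hmod := hp.card_modEq_card_fixedPoints α
  have hfix : Nat.card (MulAction.fixedPoints ↥(Subgroup.zpowers σ) α) =
      Nat.card {a : α // σ a = a} := by
    refine Nat.card_congr (Equiv.subtypeEquivRight fun a => ⟨fun h => h ⟨σ, Subgroup.mem_zpowers σ⟩,
      fun h => ?_⟩)
    rintro ⟨_, i, rfl⟩
    exact Equiv.Perm.zpow_apply_eq_self_of_apply_eq_self h i
  rw [hfix, h5] at hmod
  have hle : Nat.card {a : α // σ a = a} ≤ 5 := h5 ▸ Nat.card_le_card_of_injective _ Subtype.val_injective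
  by_cases hall : ∀ a, σ a = a
  · exact Or.inr (Equiv.ext hall)
  left
  push Not at hall
  obtain ⟨a, ha⟩ := hall
  have hlt : Nat.card {a : α // σ a = a} < 5 := by
    rw [← h5]
    exact Finite.card_subtype_lt ha
  unfold Nat.ModEq at hmod
  omega

/-- Counting along the fibres of a map with four possible values. -/
theorem card_subtype_split4 {W V : Type*} [Finite W] (q : W → V) (e a b c : V) (hea : e ≠ a)
    (heb : e ≠ b) (hec : e ≠ c) (hab : a ≠ b) (hac : a ≠ c) (hbc : b ≠ c)
    (hvals : ∀ w, q w = e ∨ q w = a ∨ q w = b ∨ q w = c) (R : W → Prop) :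
    Nat.card {w // R w} = Nat.card {w : {w // q w = e} // R w.1} +
      Nat.card {w : {w // q w = a} // R w.1} + Nat.card {w : {w // q w = b} // R w.1} +
        Nat.card {w : {w // q w = c} // R w.1} := by
  classical
  letI := Fintype.ofFinite W
  have h1 : ∀ v : V, Nat.card {w : {w // q w = v} // R w.1} =
      (Finset.univ.filter fun w => q w = v ∧ R w).card := by
    intro v
    rw [← Fintype.card_subtype, ← Nat.card_eq_fintype_card]
    exact Nat.card_congr (Equiv.subtypeSubtypeEquivSubtypeInter (fun w => q w = v) R)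
  rw [h1, h1, h1, h1, Nat.card_eq_fintype_card, Fintype.card_subtype,
    ← Finset.card_union_of_disjoint, ← Finset.card_union_of_disjoint,
    ← Finset.card_union_of_disjoint]
  · congr 1
    ext w
    simp only [Finset.mem_filter, Finset.mem_univ, true_and, Finset.mem_union]
    have := hvals w
    tauto
  all_goals
    rw [Finset.disjoint_left]
    intro w hw hw'
    simp only [Finset.mem_filter, Finset.mem_univ, true_and, Finset.mem_union] at hw hw'
    rcases hw' with ⟨hq', -⟩
    simp [hq', Ne.symm hea, Ne.symm heb, Ne.symm hec, Ne.symm hab, Ne.symm hac,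
      Ne.symm hbc] at hw

set_option maxHeartbeats 1000000 in
/-- A perfect group of automorphisms fixing all involutions of a 2-group with at most four
elements of square one acts trivially. -/
theorem fix_of_perfect [Finite X] (hX : IsPGroup 2 X) (h4 : Nat.card {x : X // x * x = 1} ≤ 4)
    {P : Type*} [Group P] [Finite P] (hP : Group.IsPerfect P) (φ : P →* MulAut X)
    (hinv : ∀ (g : P) (x : X), x * x = 1 → φ g x = x) :
    ∀ (n : ℕ) (Y : Subgroup X), Nat.card ↥Y = n → (∀ g, ∀ y ∈ Y, φ g y ∈ Y) →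
      ∀ g, ∀ y ∈ Y, φ g y = y := by
  classical
  haveI : Fact (Nat.Prime 2) := ⟨Nat.prime_two⟩
  intro n
  induction n using Nat.strong_induction_on with
  | _ n ih =>
  intro Y hYn hYinv
  by_contra hcon
  -- fixed displacements give a homomorphism into a 2-group
  have hhom : ∀ y : X, (∀ g g' : P, φ g (y⁻¹ * φ g' y) = y⁻¹ * φ g' y) → ∀ g, φ g y = y := by
    intro y hy g
    let f : P →* X := MonoidHom.mk' (fun g => y⁻¹ * φ g y) (fun g g' => by
      have h1 := hy g g'
      rw [map_mul, map_inv] at h1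
      show y⁻¹ * φ (g * g') y = y⁻¹ * φ g y * (y⁻¹ * φ g' y)
      rw [map_mul φ, MulAut.mul_apply]
      calc y⁻¹ * φ g (φ g' y) = y⁻¹ * φ g y * ((φ g y)⁻¹ * φ g (φ g' y)) := by group
        _ = _ := by rw [h1])
    obtain ⟨k, hk⟩ := IsPGroup.iff_card.1 (hX.to_subgroup f.range)
    have := hom_eq_one_of_dvd hP f 2 2 k 0 Nat.prime_two Nat.prime_two (by rw [hk, pow_zero, mul_one]) g
    exact (inv_mul_eq_one.1 this).symm
  -- anything normal and fixed is central
  have hcentral : ∀ (S : Subgroup X), (∀ y ∈ Y, ∀ s ∈ S, y * s * y⁻¹ ∈ S) →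
      (∀ g, ∀ s ∈ S, φ g s = s) → ∀ s ∈ S, ∀ y ∈ Y, s * y = y * s := by
    intro S hSn hSfix s hs
    set D : Subgroup X := Subgroup.closure {d | ∃ g : P, ∃ y ∈ Y, d = y⁻¹ * φ g y} with hD
    have hDY : D ≤ Y := by
      rw [hD, Subgroup.closure_le]
      rintro _ ⟨g, y, hy, rfl⟩
      exact mul_mem (inv_mem hy) (hYinv g y hy)
    have hDinv : ∀ g, ∀ d ∈ D, φ g d ∈ D := by
      intro g d hd
      have hgen : D.map (φ g).toMonoidHom ≤ D := by
        rw [hD, MonoidHom.map_closure, Subgroup.closure_le]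
        rintro _ ⟨_, ⟨g', y, hy, rfl⟩, rfl⟩
        have : (φ g).toMonoidHom (y⁻¹ * φ g' y) = (y⁻¹ * φ g y)⁻¹ * (y⁻¹ * φ (g * g') y) := by
          simp [map_mul, mul_assoc]
        rw [this]
        exact mul_mem (inv_mem (Subgroup.subset_closure ⟨g, y, hy, rfl⟩))
          (Subgroup.subset_closure ⟨_, y, hy, rfl⟩)
      exact hgen (Subgroup.mem_map_of_mem _ hd)
    have hDeq : D = Y := by
      by_contra hne
      apply hcon
      have hlt : Nat.card ↥D < n := by
        rw [← hYn]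
        exact lt_of_le_of_ne (Subgroup.card_le_of_le hDY)
          (fun h => hne (Subgroup.eq_of_le_of_card_ge hDY h.ge))
      have hfixD := ih _ hlt D rfl hDinv
      intro g y hy
      exact hhom y (fun g g' => hfixD g _ (Subgroup.subset_closure ⟨g', y, hy, rfl⟩)) g
    have hDc : D ≤ Subgroup.centralizer ({s} : Set X) := by
      rw [hD, Subgroup.closure_le]
      rintro _ ⟨g, y, hy, rfl⟩
      refine Subgroup.mem_centralizer_singleton_iff.2 ?_
      have h1 := hSfix g _ (hSn y hy s hs)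
      rw [map_mul, map_mul, map_inv, hSfix g s hs] at h1
      calc y⁻¹ * φ g y * s = y⁻¹ * (φ g y * s * (φ g y)⁻¹) * φ g y := by group
        _ = s * (y⁻¹ * φ g y) := by rw [h1]; group
    intro y hy
    exact (Subgroup.mem_centralizer_singleton_iff.1 (hDc (hDeq ▸ hy))).symm
  -- the subgroup generated by squares
  have hY1 : Nontrivial ↥Y := by
    rw [Subgroup.nontrivial_iff_ne_bot]
    rintro rfl
    exact hcon fun g y hy => by rw [Subgroup.mem_bot.1 hy, map_one]
  set N : Subgroup X := Subgroup.closure {z | ∃ y ∈ Y, z = y * y} with hN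
  have hNY : N ≤ Y := by
    rw [hN, Subgroup.closure_le]
    rintro _ ⟨y, hy, rfl⟩
    exact mul_mem hy hy
  have hNinv : ∀ g, ∀ z ∈ N, φ g z ∈ N := by
    intro g z hz
    have hgen : N.map (φ g).toMonoidHom ≤ N := by
      rw [hN, MonoidHom.map_closure, Subgroup.closure_le]
      rintro _ ⟨_, ⟨y, hy, rfl⟩, rfl⟩
      exact Subgroup.subset_closure ⟨φ g y, hYinv g y hy, by simp⟩
    exact hgen (Subgroup.mem_map_of_mem _ hz)
  have hNnorm : ∀ y ∈ Y, ∀ z ∈ N, y * z * y⁻¹ ∈ N := by
    intro y hy z hz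
    have hgen : N.map (MulAut.conj y).toMonoidHom ≤ N := by
      rw [hN, MonoidHom.map_closure, Subgroup.closure_le]
      rintro _ ⟨_, ⟨w, hw, rfl⟩, rfl⟩
      exact Subgroup.subset_closure
        ⟨y * w * y⁻¹, mul_mem (mul_mem hy hw) (inv_mem hy), by simp [mul_assoc]⟩
    exact hgen (Subgroup.mem_map_of_mem _ hz)
  have hNfix : ∀ g, ∀ z ∈ N, φ g z = z := by
    obtain ⟨m, hm, hm'⟩ := (IsPGroup.nontrivial_iff_card (hX.to_subgroup Y)).1 hY1
    obtain ⟨M, hM⟩ := Sylow.exists_subgroup_card_pow_prime (G := ↥Y) 2 (n := m - 1)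
      (by rw [hm']; exact pow_dvd_pow 2 (by omega))
    have hidx : M.index = 2 := by
      have h1 := M.card_mul_index
      rw [hM, hm'] at h1
      have : 2 ^ m = 2 ^ (m - 1) * 2 := by rw [← pow_succ]; congr 1; omega
      rw [this] at h1
      exact mul_left_cancel₀ (pow_ne_zero _ two_ne_zero) h1
    have hle : N ≤ M.map Y.subtype := by
      rw [hN, Subgroup.closure_le]
      rintro _ ⟨y, hy, rfl⟩
      exact ⟨⟨y, hy⟩ * ⟨y, hy⟩, (Subgroup.mul_mem_iff_of_index_two hidx).2 Iff.rfl, rfl⟩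
    have hlt : Nat.card ↥N < n := by
      refine lt_of_le_of_lt (Subgroup.card_le_of_le hle) ?_
      rw [Subgroup.card_map_of_injective Y.subtype_injective, hM, ← hYn, hm']
      exact Nat.pow_lt_pow_right (by norm_num) (by omega)
    exact ih _ hlt N rfl hNinv
  have hNcent := hcentral N hNnorm hNfix
  have hNsq : ∀ y ∈ Y, y * y ∈ N := fun y hy => Subgroup.subset_closure ⟨y, hy, rfl⟩
  have hNcomm : ∀ a ∈ Y, ∀ b ∈ Y, ⁅a, b⁆ ∈ N := by
    intro a ha b hb
    have h1 : ⁅a, b⁆ = (a * b) * (a * b) * (b * b)⁻¹ *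
        ((b * a⁻¹ * b⁻¹) * (b * a⁻¹ * b⁻¹)) := by
      rw [commutatorElement_def]; group
    rw [h1]
    refine mul_mem (mul_mem (hNsq _ (mul_mem ha hb)) (inv_mem (hNsq _ hb))) ?_
    exact hNsq _ (mul_mem (mul_mem hb (inv_mem ha)) (inv_mem hb))
  have hcomm2 : ∀ a ∈ Y, ∀ b ∈ Y, ⁅a, b⁆ * ⁅a, b⁆ = 1 := by
    intro a ha b hb
    have h1 : ⁅a * a, b⁆ = 1 :=
      commutatorElement_eq_one_iff_mul_comm.2 (hNcent _ (hNsq a ha) b hb)
    have h2 := hNcent _ (hNcomm a ha b hb) a ha
    simp only [commutatorElement_def] at h1 h2 ⊢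
    rw [← h1]
    calc (a * b * a⁻¹ * b⁻¹) * (a * b * a⁻¹ * b⁻¹)
        = ((a * b * a⁻¹ * b⁻¹) * a) * (b * a⁻¹ * b⁻¹) := by group
      _ = _ := by rw [h2]; group
  have hY4 : ∀ y ∈ Y, (y * y) * (y * y) = 1 := by
    -- fourth powers of the displacements are trivial, and they generate
    have hprod : ∀ a ∈ Y, ∀ b ∈ Y, (a * a) * (a * a) = 1 → (b * b) * (b * b) = 1 →
        (a * b * (a * b)) * (a * b * (a * b)) = 1 := by
      intro a ha b hb h1 h2
      have hc := hNcent _ (hNcomm b hb a ha) a ha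
      have hexp : a * b * (a * b) = ⁅b, a⁆ * ((a * a) * (b * b)) := by
        simp only [commutatorElement_def] at hc ⊢
        calc a * b * (a * b) = (a * (b * a * b⁻¹ * a⁻¹)) * a * b * b := by group
          _ = _ := by rw [← hc]; group
      rw [hexp]
      have hca : Commute ⁅b, a⁆ ((a * a) * (b * b)) :=
        hNcent _ (hNcomm b hb a ha) _ (mul_mem (mul_mem ha ha) (mul_mem hb hb))
      have hab : Commute (a * a) (b * b) := hNcent _ (hNsq a ha) _ (mul_mem hb hb)
      rw [hca.symm.mul_mul_mul_comm, hcomm2 b hb a ha, one_mul, hab.symm.mul_mul_mul_comm, h1, h2,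
        one_mul]
    let T : Subgroup X :=
      { carrier := {y | y ∈ Y ∧ (y * y) * (y * y) = 1}
        one_mem' := ⟨Y.one_mem, by simp⟩
        mul_mem' := fun ha hb => ⟨mul_mem ha.1 hb.1, hprod _ ha.1 _ hb.1 ha.2 hb.2⟩
        inv_mem' := fun {a} ha => ⟨inv_mem ha.1, by
          rw [← mul_inv_rev, ← mul_inv_rev, ha.2, inv_one]⟩ }
    intro y hy
    by_contra hne
    have hgen : ∀ g, ∀ w ∈ Y, w⁻¹ * φ g w ∈ T := by
      intro g w hw
      set d := w⁻¹ * φ g w with hd
      have hdY : d ∈ Y := mul_mem (inv_mem hw) (hYinv g w hw)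
      refine ⟨hdY, ?_⟩
      have hfx := hNfix g _ (hNsq w hw)
      rw [map_mul, show φ g w = w * d by rw [hd, mul_inv_cancel_left]] at hfx
      have hc := hNcent _ (hNcomm d hdY w hw) w hw
      have h1 : (w * w) * (⁅d, w⁆ * (d * d)) = w * w := by
        conv_rhs => rw [← hfx]
        simp only [commutatorElement_def] at hc ⊢
        calc (w * w) * (d * w * d⁻¹ * w⁻¹ * (d * d)) = w * (w * (d * w * d⁻¹ * w⁻¹)) * d * d := by group
          _ = w * d * (w * d) := by rw [← hc]; group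
      have h2 : d * d = ⁅d, w⁆⁻¹ := eq_inv_of_mul_eq_one_right (mul_left_cancel (h1.trans (mul_one _).symm))
      rw [h2, ← mul_inv_rev, hcomm2 d hdY w hw, inv_one]
    -- the fixed subgroup argument: displacements lie in `T`, which is proper
    apply hcon
    have hTY : T ≤ Y := fun w hw => hw.1
    have hTinv : ∀ g, ∀ w ∈ T, φ g w ∈ T := fun g w hw =>
      ⟨hYinv g w hw.1, by rw [← map_mul, ← map_mul, hw.2, map_one]⟩
    have hlt : Nat.card ↥T < n := by
      rw [← hYn]
      exact lt_of_le_of_ne (Subgroup.card_le_of_le hTY) (fun h =>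
        hne ((Subgroup.eq_of_le_of_card_ge hTY h.ge).symm ▸ hy : y ∈ T).2)
    have hfixT := ih _ hlt T rfl hTinv
    intro g w hw
    exact hhom w (fun g g' => hfixT g _ (hgen g' w hw)) g
  have hN1 : ∀ z ∈ N, z * z = 1 := by
    intro z hz
    induction hz using Subgroup.closure_induction with
    | mem z hz => obtain ⟨y, hy, rfl⟩ := hz; exact hY4 y hy
    | one => exact one_mul 1
    | mul a b ha hb ia ib =>
      have hab : Commute a b := hNcent a ha b (hNY hb)
      rw [hab.symm.mul_mul_mul_comm, ia, ib, one_mul]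
    | inv a _ ia => rw [← mul_inv_rev, ia, inv_one]
  have hN4 : Nat.card ↥N ≤ 4 :=
    le_trans (Nat.card_le_card_of_injective (fun z : ↥N => (⟨z, hN1 z z.2⟩ : {x : X // x * x = 1}))
      fun a b h => Subtype.ext (congrArg (fun v : {x : X // x * x = 1} => (v : X)) h :)) h4
  -- the fixed subgroup
  let F : Subgroup X :=
    { carrier := {y | y ∈ Y ∧ ∀ g, φ g y = y}
      one_mem' := ⟨Y.one_mem, fun g => map_one _⟩
      mul_mem' := fun ha hb => ⟨mul_mem ha.1 hb.1, fun g => by rw [map_mul, ha.2, hb.2]⟩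
      inv_mem' := fun ha => ⟨inv_mem ha.1, fun g => by rw [map_inv, ha.2]⟩ }
  have hFY : F ≤ Y := fun y hy => hy.1
  have hNF : N ≤ F := fun z hz => ⟨hNY hz, fun g => hNfix g z hz⟩
  have hFnorm : ∀ y ∈ Y, ∀ f ∈ F, y * f * y⁻¹ ∈ F := by
    intro y hy f hf
    have : y * f * y⁻¹ = ⁅y, f⁆ * f := by rw [commutatorElement_def]; group
    rw [this]
    exact mul_mem (hNF (hNcomm y hy f hf.1)) hf
  have hFcent := hcentral F hFnorm (fun g s hs => hs.2 g)
  have hdispF : ∀ y ∈ Y, (∀ g, y⁻¹ * φ g y ∈ F) → y ∈ F := fun y hy h =>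
    ⟨hy, hhom y (fun g g' => (h g').2 g)⟩
  have hne : ¬ Y ≤ F := fun h => hcon fun g y hy => (h hy).2 g
  -- squares outside `F` are not squares of `F`
  have hout : ∀ y ∈ Y, y ∉ F → ∀ f ∈ F, y * y ≠ f * f := by
    intro y hy hyF f hf h
    apply hyF
    have hc : Commute f⁻¹ y := (show Commute f y from hFcent f hf y hy).inv_left
    have h1 : (y * f⁻¹) * (y * f⁻¹) = 1 := by
      rw [hc.mul_mul_mul_comm, h]; group
    have h2 : y * f⁻¹ ∈ F := ⟨mul_mem hy (inv_mem hf.1), fun g => hinv g _ h1⟩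
    simpa using mul_mem h2 hf
  -- few cosets of `F` are permuted trivially
  let F' : Subgroup ↥Y := F.subgroupOf Y
  haveI hF'n : F'.Normal := ⟨fun f hf y => hFnorm y y.2 f hf⟩
  let α : P →* MulAut ↥Y := MonoidHom.mk' (fun g =>
    { toFun := fun y => ⟨φ g y, hYinv g y y.2⟩
      invFun := fun y => ⟨φ g⁻¹ y, hYinv g⁻¹ y y.2⟩
      left_inv := fun y => Subtype.ext (by
        show φ g⁻¹ (φ g (y : X)) = y
        rw [← MulAut.mul_apply, ← map_mul, inv_mul_cancel, map_one, MulAut.one_apply])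
      right_inv := fun y => Subtype.ext (by
        show φ g (φ g⁻¹ (y : X)) = y
        rw [← MulAut.mul_apply, ← map_mul, mul_inv_cancel, map_one, MulAut.one_apply])
      map_mul' := fun y w => Subtype.ext (map_mul (φ g) (y : X) w) })
    (fun g g' => MulEquiv.ext fun y => Subtype.ext (by simp))
  have hαF : ∀ g, F'.map (α g).toMonoidHom = F' := by
    intro g
    refine le_antisymm ?_ ?_
    · rintro _ ⟨y, hy, rfl⟩
      show φ g (y : X) ∈ F
      have hy' : (y : X) ∈ F := hy
      rw [hy'.2 g]; exact hy'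
    · intro y hy
      exact ⟨y, hy, Subtype.ext ((Subgroup.mem_subgroupOf.1 hy).2 g)⟩
  let act : P →* Equiv.Perm (↥Y ⧸ F') := MonoidHom.mk'
    (fun g => (QuotientGroup.congr F' F' (α g) (hαF g)).toEquiv)
    (fun g g' => Equiv.ext fun q => by
      induction q using QuotientGroup.induction_on with
      | H y => show QuotientGroup.mk (α (g * g') y) = _; rw [map_mul]; rfl)
  have hactmk : ∀ g (y : ↥Y), act g (QuotientGroup.mk y) = QuotientGroup.mk (α g y) :=
    fun g y => rfl
  have hfixmk : ∀ y : ↥Y, (∀ g, act g (QuotientGroup.mk y) = QuotientGroup.mk y) → (y : X) ∈ F := by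
    intro y hy
    refine hdispF _ y.2 fun g => ?_
    have h1 := hy g
    rw [hactmk, eq_comm, QuotientGroup.eq] at h1
    exact h1
  -- the dichotomy
  have hF2 : ∀ y ∈ Y, y * y ∈ F := fun y hy => hNF (hNsq y hy)
  have hcardW : Nat.card (↥Y ⧸ F') * Nat.card ↥F = Nat.card ↥Y := by
    rw [← Subgroup.card_eq_card_quotient_mul_card_subgroup F' |>.symm]
    congr 1
    exact (Nat.card_congr (Subgroup.subgroupOfEquivOfLe hFY).toEquiv).symm
  have small : ∀ K : Subgroup X, (∀ a ∈ N, ∀ b ∈ N, a ∉ K → b ∉ K → a * b ∈ K) → K ≤ N →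
      (∀ y ∈ Y, y ∉ F → y * y ∉ K) → False := by
    intro K hK2 hKN hK
    have := index_le_four hFY hNsq hNcomm hNcent hKN hK2 hK hF2
    apply hne
    intro y hy
    refine hfixmk ⟨y, hy⟩ fun g => ?_
    have h4 : Nat.card (↥Y ⧸ F') ≤ 4 := by
      rw [← hcardW] at this
      exact Nat.le_of_mul_le_mul_right this Nat.card_pos
    rw [perm_eq_one_of_card_le_four hP act h4 g]; rfl
  have hKmul : ∀ a ∈ N, ∀ b ∈ N, ∀ c ∈ N, a ≠ 1 → b ≠ 1 → c ≠ 1 → a ≠ c → b ≠ c →
      a * b = 1 ∨ a * b = c := by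
    intro a ha b hb c hc ha1 hb1 hc1 hac hbc
    by_cases hab : a = b
    · left; rw [hab]; exact hN1 b hb
    right
    by_contra habc
    have hne1 : a * b ≠ 1 := fun h => hab (by
      rw [eq_inv_of_mul_eq_one_left h, inv_eq_of_mul_eq_one_right (hN1 b hb)])
    let f : Fin 5 → ↥N := ![1, ⟨a, ha⟩, ⟨b, hb⟩, ⟨c, hc⟩, ⟨a * b, mul_mem ha hb⟩]
    have hf : Function.Injective f := by
      have h1 : a * b ≠ a := fun h => hb1 (mul_eq_left.1 h)
      have h2 : a * b ≠ b := fun h => ha1 (mul_eq_right.1 h)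
      intro i j h
      have h' : ((f i : ↥N) : X) = f j := by rw [h]
      fin_cases i <;> fin_cases j <;>
        first
          | rfl
          | (simp [f] at h'; first
              | exact absurd h' ha1 | exact absurd h'.symm ha1
              | exact absurd h' hb1 | exact absurd h'.symm hb1
              | exact absurd h' hc1 | exact absurd h'.symm hc1
              | exact absurd h' hab | exact absurd h'.symm hab
              | exact absurd h' hac | exact absurd h'.symm hac
              | exact absurd h' hbc | exact absurd h'.symm hbc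
              | exact absurd h' h1 | exact absurd h'.symm h1
              | exact absurd h' h2 | exact absurd h'.symm h2
              | exact absurd h' hne1 | exact absurd h'.symm hne1
              | exact absurd h' habc | exact absurd h'.symm habc)
    have := Nat.card_le_card_of_injective f hf
    simp at this; omega
  by_cases hN2 : Nat.card ↥N ≤ 2
  · refine small ⊥ (fun a ha b hb ha' hb' => ?_) bot_le fun y hy hyF h => ?_
    · rw [Subgroup.mem_bot] at ha' hb' ⊢
      by_contra hab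
      let f : Fin 3 → ↥N := ![1, ⟨a, ha⟩, ⟨a * b, mul_mem ha hb⟩]
      have hf : Function.Injective f := by
        have h1 : a * b ≠ a := fun h => hb' (mul_eq_left.1 h)
        intro i j h
        have h' : ((f i : ↥N) : X) = f j := by rw [h]
        fin_cases i <;> fin_cases j <;>
          first
            | rfl
            | (simp [f] at h'; first
                | exact absurd h' ha' | exact absurd h'.symm ha'
                | exact absurd h' hab | exact absurd h'.symm hab
                | exact absurd h' h1 | exact absurd h'.symm h1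
                | exact absurd h' hb' | exact absurd h'.symm hb')
      have := Nat.card_le_card_of_injective f hf
      simp at this; omega
    · exact hout y hy hyF 1 F.one_mem (by rw [Subgroup.mem_bot.1 h, one_mul])
  by_cases hmiss : ∃ c ∈ N, c ≠ 1 ∧ ∀ y ∈ Y, y ∉ F → y * y ≠ c
  · obtain ⟨c, hc, hc1, hcy⟩ := hmiss
    refine small (Subgroup.zpowers c) (fun a ha b hb ha' hb' => ?_) (Subgroup.zpowers_le.2 hc) ?_
    · rcases hKmul a ha b hb c hc (fun h => ha' (h ▸ one_mem _)) (fun h => hb' (h ▸ one_mem _)) hc1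
        (fun h => ha' (h ▸ Subgroup.mem_zpowers c)) (fun h => hb' (h ▸ Subgroup.mem_zpowers c))
        with h | h <;> rw [h]
      · exact one_mem _
      · exact Subgroup.mem_zpowers c
    · intro y hy hyF hmem
      obtain ⟨i, hi⟩ := hmem
      have hi' : c ^ i = y * y := hi
      rcases Int.even_or_odd i with ⟨k, rfl⟩ | ⟨k, rfl⟩
      · refine hout y hy hyF 1 F.one_mem ?_
        rw [← hi', zpow_add, ← (Commute.refl c).mul_zpow, hN1 c hc, one_zpow, one_mul]
      · apply hcy y hy hyF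
        rw [← hi', zpow_add, two_mul, zpow_add, ← (Commute.refl c).mul_zpow, hN1 c hc, one_zpow,
          one_mul, zpow_one]
  push Not at hmiss
  -- now `F = N` has order four and every nontrivial element is a square from outside
  have hFsq : ∀ f ∈ F, f * f = 1 := by
    intro f hf
    by_contra h
    obtain ⟨y, hy, hyF, hyc⟩ := hmiss _ (hNsq f hf.1) h
    exact hout y hy hyF f hf hyc
  have hN4' : Nat.card ↥N = 4 := by
    obtain ⟨k, hk⟩ := IsPGroup.iff_card.1 (hX.to_subgroup N)
    have : k = 2 := by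
      rcases k with _ | _ | _ | k
      · rw [pow_zero] at hk; omega
      · rw [zero_add, pow_one] at hk; omega
      · rfl
      · have : 2 ^ 3 ≤ 2 ^ (k + 3) := Nat.pow_le_pow_right (by norm_num) (by omega)
        omega
    rw [hk, this]; norm_num
  have hFN : F = N := by
    refine (Subgroup.eq_of_le_of_card_ge hNF ?_).symm
    rw [hN4']
    refine le_trans (Nat.card_le_card_of_injective
      (fun z : ↥F => (⟨z, hFsq z z.2⟩ : {x : X // x * x = 1})) fun a b h => ?_) h4
    exact Subtype.ext (congrArg (fun v : {x : X // x * x = 1} => (v : X)) h :)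
  have hN'sq : ∀ y ∈ Y, y * y = 1 → y ∈ N := by
    intro y hy h
    rw [← hFN]; exact ⟨hy, fun g => hinv g y h⟩
  -- the classes of cosets
  have hsqwd : ∀ a b : ↥Y, a⁻¹ * b ∈ F' → (a : X) * a = (b : X) * b := by
    intro a b hab
    have hz : (a : X)⁻¹ * b ∈ F := hab
    have hc : Commute ((a : X)⁻¹ * b) (a : X) := hFcent _ hz _ a.2
    have h1 : (b : X) = (a : X) * ((a : X)⁻¹ * b) := by group
    rw [h1, hc.mul_mul_mul_comm, hFsq _ hz, mul_one]
  let q : ↥Y ⧸ F' → X := Quotient.lift (fun y : ↥Y => (y : X) * y) fun a b hab => hsqwd a b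
    (QuotientGroup.leftRel_apply.1 hab)
  have hqmk : ∀ y : ↥Y, q (QuotientGroup.mk y) = (y : X) * y := fun y => rfl
  have hqact : ∀ g w, q (act g w) = q w := by
    intro g w
    induction w using QuotientGroup.induction_on with
    | H y =>
      rw [hactmk, hqmk, hqmk]
      show φ g (y : X) * φ g y = _
      rw [← map_mul, hNfix g _ (hNsq _ y.2)]
  let cls : X → Type _ := fun a => {w : ↥Y ⧸ F' // q w = a}
  let actc : ∀ a : X, P →* Equiv.Perm (cls a) := fun a => MonoidHom.mk'
    (fun g => (act g).subtypeEquiv fun w => by rw [hqact])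
    (fun g g' => Equiv.ext fun w => Subtype.ext (by simp))
  have hactc : ∀ a g (w : cls a), ((actc a g w : cls a) : ↥Y ⧸ F') = act g w.1 := fun a g w => rfl
  have hq1 : ∀ w, q w = 1 ↔ w = 1 := by
    intro w
    induction w using QuotientGroup.induction_on with
    | H y =>
      rw [hqmk, QuotientGroup.eq_one_iff]
      exact ⟨fun h => (Subgroup.mem_subgroupOf.2 (by rw [hFN]; exact hN'sq _ y.2 h)), fun h => hFsq _ h⟩
  have hclass5 : ∀ a ∈ N, a ≠ 1 → 5 ≤ Nat.card (cls a) := by
    intro a ha ha1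
    by_contra hlt
    push Not at hlt
    obtain ⟨y, hy, hyF, hya⟩ := hmiss a ha ha1
    apply hyF
    refine hfixmk ⟨y, hy⟩ fun g => ?_
    have h1 := perm_eq_one_of_card_le_four hP (actc a) (by omega) g
    have h2 := hactc a g ⟨QuotientGroup.mk ⟨y, hy⟩, hya⟩
    rw [h1] at h2
    exact h2.symm
  -- centralisers in `Y`
  have hC : ∀ x₀ ∈ Y, x₀ ∉ F →
      Nat.card ↥(Y ⊓ Subgroup.centralizer ({x₀} : Set X)) ≤ 4 * (2 * Nat.card ↥F) := by
    intro x₀ hx₀Y hx₀F
    obtain ⟨c₀, hx₀⟩ : ∃ c, x₀ * x₀ = c := ⟨_, rfl⟩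
    have hc₀N : c₀ ∈ N := hx₀ ▸ hNsq x₀ hx₀Y
    have hc₀ : c₀ ≠ 1 := hx₀ ▸ fun h => hout x₀ hx₀Y hx₀F 1 F.one_mem (by rw [one_mul, h])
    set Y1 : Subgroup X := Y ⊓ Subgroup.centralizer ({x₀} : Set X) with hY1def
    set F1 : Subgroup X := F ⊔ Subgroup.zpowers x₀ with hF1def
    have hF1Y : F1 ≤ Y1 := by
      refine sup_le (fun f hf => ⟨hf.1, ?_⟩) (Subgroup.zpowers_le.2 ⟨hx₀Y, ?_⟩)
      · exact Subgroup.mem_centralizer_singleton_iff.2 (hFcent f hf x₀ hx₀Y)
      · exact Subgroup.mem_centralizer_singleton_iff.2 rfl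
    have hcard1 : Nat.card ↥Y1 ≤ 4 * Nat.card ↥F1 := by
      refine index_le_four (K := Subgroup.zpowers c₀) hF1Y (fun y hy => hNsq y hy.1)
        (fun y hy w hw => hNcomm y hy.1 w hw.1) (fun z hz y hy => hNcent z hz y hy.1)
        (Subgroup.zpowers_le.2 hc₀N) (fun a ha b hb ha' hb' => ?_) ?_
        (fun y hy => Subgroup.mem_sup_left (hF2 y hy.1))
      · rcases hKmul a ha b hb c₀ hc₀N (fun h => ha' (h ▸ one_mem _))
          (fun h => hb' (h ▸ one_mem _)) hc₀ (fun h => ha' (h ▸ Subgroup.mem_zpowers c₀))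
          (fun h => hb' (h ▸ Subgroup.mem_zpowers c₀)) with h | h <;> rw [h]
        · exact one_mem _
        · exact Subgroup.mem_zpowers c₀
      · intro y hy hyF1 hmem
        obtain ⟨i, hi⟩ := hmem
        have hi' : c₀ ^ i = y * y := hi
        rcases Int.even_or_odd i with ⟨k, rfl⟩ | ⟨k, rfl⟩
        · rw [zpow_add, ← (Commute.refl c₀).mul_zpow, hN1 c₀ hc₀N, one_zpow] at hi'
          exact hyF1 (Subgroup.mem_sup_left (hFN ▸ hN'sq y hy.1 hi'.symm))
        · rw [zpow_add, two_mul, zpow_add, ← (Commute.refl c₀).mul_zpow, hN1 c₀ hc₀N, one_zpow,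
            one_mul, zpow_one] at hi'
          have hcomm' : Commute y x₀ := Subgroup.mem_centralizer_singleton_iff.1 hy.2
          have h1 : (y * x₀) * (y * x₀) = 1 := by
            rw [hcomm'.symm.mul_mul_mul_comm, ← hi', hx₀, hN1 c₀ hc₀N]
          apply hyF1
          have h2 : y * x₀ ∈ F := hFN ▸ hN'sq _ (mul_mem hy.1 hx₀Y) h1
          have := mul_mem (Subgroup.mem_sup_left (T := Subgroup.zpowers x₀) h2)
            (Subgroup.mem_sup_right (S := F) (inv_mem (Subgroup.mem_zpowers x₀)))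
          simpa using this
    have hF1card : Nat.card ↥F1 ≤ 2 * Nat.card ↥F := by
      have hsub : (F1 : Set X) ⊆ Set.range
          (fun p : Bool × ↥F => (if p.1 then x₀ else 1) * (p.2 : X)) := by
        intro z hz
        have : F1 ≤ (Subgroup.closure ((F : Set X) ∪ {x₀})) :=
          sup_le (fun f hf => Subgroup.subset_closure (Or.inl hf))
            (Subgroup.zpowers_le.2 (Subgroup.subset_closure (Or.inr rfl)))
        have hz' := this hz
        clear hz
        induction hz' using Subgroup.closure_induction with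
        | mem z hz =>
          rcases hz with hz | rfl
          · exact ⟨(false, ⟨z, hz⟩), by simp⟩
          · exact ⟨(true, 1), by simp⟩
        | one => exact ⟨(false, 1), by simp⟩
        | mul a b _ _ ia ib =>
          obtain ⟨⟨i, f⟩, rfl⟩ := ia
          obtain ⟨⟨j, f'⟩, rfl⟩ := ib
          have hfc : (f : X) * x₀ = x₀ * f := hFcent f f.2 x₀ hx₀Y
          cases i <;> cases j
          · exact ⟨(false, f * f'), by simp⟩
          · exact ⟨(true, f * f'), by simp [← mul_assoc, hfc]⟩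
          · exact ⟨(true, f * f'), by simp [mul_assoc]⟩
          · refine ⟨(false, ⟨x₀ * x₀, hF2 x₀ hx₀Y⟩ * (f * f')), ?_⟩
            simp only [Bool.false_eq_true, if_false, if_true, one_mul, Subgroup.coe_mul]
            calc x₀ * x₀ * ((f : X) * f') = x₀ * (x₀ * f) * f' := by group
              _ = x₀ * (f * x₀) * f' := by rw [hfc]
              _ = x₀ * f * (x₀ * f') := by group
        | inv a _ ia =>
          obtain ⟨⟨i, f⟩, rfl⟩ := ia
          cases i
          · exact ⟨(false, f⁻¹), by simp⟩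
          · refine ⟨(true, ⟨x₀ * x₀, hF2 x₀ hx₀Y⟩⁻¹ * f⁻¹), ?_⟩
            simp only [if_true, Subgroup.coe_mul, Subgroup.coe_inv]
            have hfc : (f : X)⁻¹ * x₀⁻¹ = x₀⁻¹ * (f : X)⁻¹ := by
              rw [← mul_inv_rev, ← mul_inv_rev, hFcent f f.2 x₀ hx₀Y]
            rw [mul_inv_rev x₀ (f : X), hfc]; group
      calc Nat.card ↥F1 ≤ Nat.card (Set.range _) := Nat.card_mono (Set.toFinite _) hsub
        _ ≤ Nat.card (Bool × ↥F) := Finite.card_range_le _
        _ = _ := by simp [Nat.card_prod]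
    exact hcard1.trans (Nat.mul_le_mul_left 4 hF1card)
  have hindex : ∀ x₀ ∈ Y, ∀ K : Subgroup X, (∀ y ∈ Y, ⁅y, x₀⁆ ∈ K) →
      Nat.card ↥Y ≤ Nat.card ↥K * Nat.card ↥(Y ⊓ Subgroup.centralizer ({x₀} : Set X)) := by
    intro x₀ hx₀Y K hK
    set Y1 : Subgroup X := Y ⊓ Subgroup.centralizer ({x₀} : Set X) with hY1def
    let r : Set.range (fun y : ↥Y => (⟨⁅(y : X), x₀⁆, hK _ y.2⟩ : ↥K)) → ↥Y :=
      fun z => z.2.choose
    have hr : ∀ z, (⟨⁅((r z : ↥Y) : X), x₀⁆, hK _ (r z).2⟩ : ↥K) = z.1 :=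
      fun z => z.2.choose_spec
    let c : ↥Y → Set.range (fun y : ↥Y => (⟨⁅(y : X), x₀⁆, hK _ y.2⟩ : ↥K)) :=
      fun y => ⟨_, y, rfl⟩
    have hcin : ∀ y : ↥Y, ((r (c y) : ↥Y) : X)⁻¹ * y ∈ Y1 := by
      intro y
      refine ⟨Y.mul_mem (Y.inv_mem (r (c y)).2) y.2, ?_⟩
      have h1 : ⁅((r (c y) : ↥Y) : X), x₀⁆ = ⁅(y : X), x₀⁆ := congrArg Subtype.val (hr (c y))
      refine Subgroup.mem_centralizer_singleton_iff.2 ?_
      simp only [commutatorElement_def] at h1
      have h2 : ((r (c y) : ↥Y) : X) * x₀ * ((r (c y) : ↥Y) : X)⁻¹ = (y : X) * x₀ * (y : X)⁻¹ :=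
        mul_right_cancel h1
      calc ((r (c y) : ↥Y) : X)⁻¹ * y * x₀
          = ((r (c y) : ↥Y) : X)⁻¹ * ((y : X) * x₀ * (y : X)⁻¹) * y := by group
        _ = x₀ * (((r (c y) : ↥Y) : X)⁻¹ * y) := by rw [← h2]; group
    let e : ↥Y → ↥K × ↥Y1 := fun y => ((c y).1, ⟨_, hcin y⟩)
    have he : Function.Injective e := by
      intro a b h
      have h1 : c a = c b := Subtype.ext (congrArg Prod.fst h)
      have h2 : ((r (c a) : ↥Y) : X)⁻¹ * a = ((r (c b) : ↥Y) : X)⁻¹ * b :=
        congrArg (fun z : ↥K × ↥Y1 => (z.2 : X)) h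
      rw [h1] at h2
      exact Subtype.ext (mul_left_cancel h2)
    simpa [Nat.card_prod] using Nat.card_le_card_of_injective e he
  -- the size of the quotient
  obtain ⟨c₀, hc₀N, hc₀⟩ : ∃ c ∈ N, c ≠ 1 := by
    by_contra h
    push Not at h
    have : N = ⊥ := (Subgroup.eq_bot_iff_forall N).2 h
    rw [this] at hN4'; simp at hN4'
  obtain ⟨x₀, hx₀Y, hx₀F, hx₀⟩ := hmiss c₀ hc₀N hc₀
  have hW32 : Nat.card ↥Y ≤ 4 * (4 * (2 * Nat.card ↥F)) := by
    have h1 := hindex x₀ hx₀Y N fun y hy => hNcomm y hy x₀ hx₀Y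
    rw [hN4'] at h1
    exact h1.trans (Nat.mul_le_mul_left 4 (hC x₀ hx₀Y hx₀F))
  have hW : Nat.card (↥Y ⧸ F') ≤ 32 := by
    rw [← hcardW] at hW32
    apply Nat.le_of_mul_le_mul_right (c := Nat.card ↥F) ?_ Nat.card_pos
    linarith
  obtain ⟨a, b, c, ha, hb, hc, ha1, hb1, hc1, hab, hac, hbc⟩ : ∃ a b c : X, a ∈ N ∧ b ∈ N ∧ c ∈ N ∧
      a ≠ 1 ∧ b ≠ 1 ∧ c ≠ 1 ∧ a ≠ b ∧ a ≠ c ∧ b ≠ c := by
    letI := Fintype.ofFinite ↥N
    have h3 : 2 < ((Finset.univ : Finset ↥N).erase 1).card := by
      rw [Finset.card_erase_of_mem (Finset.mem_univ _), Finset.card_univ, ← Nat.card_eq_fintype_card,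
        hN4']
      norm_num
    obtain ⟨a, b, c, ha, hb, hc, hab, hac, hbc⟩ := Finset.two_lt_card_iff.1 h3
    refine ⟨a, b, c, a.2, b.2, c.2, ?_, ?_, ?_, fun h => hab (Subtype.ext h),
      fun h => hac (Subtype.ext h), fun h => hbc (Subtype.ext h)⟩
    · exact fun h => (Finset.mem_erase.1 ha).1 (Subtype.ext h)
    · exact fun h => (Finset.mem_erase.1 hb).1 (Subtype.ext h)
    · exact fun h => (Finset.mem_erase.1 hc).1 (Subtype.ext h)
  have hvals : ∀ w, q w = 1 ∨ q w = a ∨ q w = b ∨ q w = c := by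
    intro w
    induction w using QuotientGroup.induction_on with
    | H y =>
      rw [hqmk]
      by_contra h
      push Not at h
      rcases hKmul a ha b hb c hc ha1 hb1 hc1 hac hbc with hh | hh
      · exact hab (by rw [eq_inv_of_mul_eq_one_left hh, inv_eq_of_mul_eq_one_right (hN1 b hb)])
      rcases hKmul a ha b hb _ (hNsq _ y.2) ha1 hb1 h.1 (Ne.symm h.2.1) (Ne.symm h.2.2.1) with h1 | h1
      · exact hc1 (hh.symm.trans h1)
      · exact h.2.2.2 (h1.symm.trans hh)
  have hsplit : ∀ (R : ↥Y ⧸ F' → Prop), Nat.card {w // R w} =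
      Nat.card {w : cls (1 : X) // R w.1} + Nat.card {w : cls a // R w.1} +
        Nat.card {w : cls b // R w.1} + Nat.card {w : cls c // R w.1} := fun R =>
    card_subtype_split4 q 1 a b c (Ne.symm ha1) (Ne.symm hb1) (Ne.symm hc1) hab hac hbc hvals R
  have hone : ∀ R : ↥Y ⧸ F' → Prop, R 1 → Nat.card {w : cls (1 : X) // R w.1} = 1 := by
    intro R h1
    rw [Nat.card_eq_one_iff_unique]
    exact ⟨⟨fun u v => Subtype.ext (Subtype.ext
      (((hq1 _).1 u.1.2).trans ((hq1 _).1 v.1.2).symm))⟩, ⟨⟨⟨1, (hq1 1).2 rfl⟩, h1⟩⟩⟩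
  have hWsum : Nat.card (↥Y ⧸ F') = 1 + Nat.card (cls a) + Nat.card (cls b) + Nat.card (cls c) := by
    have := hsplit fun _ => True
    rw [hone (fun _ => True) trivial] at this
    simpa [Nat.card_congr (Equiv.subtypeUnivEquiv fun _ => trivial)] using this
  have h5a := hclass5 a ha ha1
  have h5b := hclass5 b hb hb1
  have h5c := hclass5 c hc hc1
  have hW16 : Nat.card (↥Y ⧸ F') = 16 := by
    obtain ⟨k, hk⟩ := IsPGroup.iff_card.1 ((hX.to_subgroup Y).to_quotient F')
    have hk5 : k ≤ 5 := by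
      by_contra h
      have : 2 ^ 6 ≤ 2 ^ k := Nat.pow_le_pow_right (by norm_num) (by omega)
      omega
    interval_cases k
    all_goals try omega
    exfalso
    -- thirty-two is impossible as `512` is not a square
    have hcY : Nat.card ↥Y = 128 := by
      rw [← hcardW, hk, hFN, hN4']; norm_num
    obtain ⟨s, hs⟩ : ∃ s : ℤ, s * s = (Nat.card ↥Y : ℤ) * Nat.card ↥N := by
      refine exists_sq_eq_card_mul (K := Subgroup.zpowers c₀) hNY hNsq hNcomm hNcent
        (fun a ha b hb ha' hb' => ?_) hN1 ?_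
      · rcases hKmul a ha b hb c₀ hc₀N (fun h => ha' (h ▸ one_mem _))
          (fun h => hb' (h ▸ one_mem _)) hc₀ (fun h => ha' (h ▸ Subgroup.mem_zpowers c₀))
          (fun h => hb' (h ▸ Subgroup.mem_zpowers c₀)) with h | h <;> rw [h]
        · exact one_mem _
        · exact Subgroup.mem_zpowers c₀
      · intro y hy hall
        rw [← hFN]
        by_contra hyF
        have h1 := hindex y hy (Subgroup.zpowers c₀) hall
        have h2 := hC y hy hyF
        have h3 : Nat.card ↥(Subgroup.zpowers c₀) = 2 := by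
          rw [Nat.card_zpowers]
          exact orderOf_eq_prime (by rw [sq]; exact hN1 c₀ hc₀N) hc₀
        rw [hcY, h3] at h1
        rw [hFN, hN4'] at h2
        omega
    rw [hcY, hN4'] at hs
    norm_num at hs
    have h1 : s < 23 := by nlinarith
    have h2 : -23 < s := by nlinarith
    interval_cases s <;> norm_num at hs
  have hca : Nat.card (cls a) = 5 := by omega
  have hcb : Nat.card (cls b) = 5 := by omega
  have hcc : Nat.card (cls c) = 5 := by omega
  -- the image on the class of `a` has order divisible by three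
  have h3 : 3 ∣ Nat.card (actc a).range := by
    by_contra h
    obtain ⟨y, hy, hyF, hya⟩ := hmiss a ha ha1
    apply hyF
    refine hfixmk ⟨y, hy⟩ fun g => ?_
    have hdvd : Nat.card (actc a).range ∣ 2 ^ 3 * 5 ^ 1 := by
      have h120 : Nat.card (actc a).range ∣ 3 * (2 ^ 3 * 5 ^ 1) := by
        refine (Subgroup.card_subgroup_dvd_card _).trans ?_
        rw [Nat.card_perm, hca]; norm_num [Nat.factorial]
      exact ((Nat.prime_three.coprime_iff_not_dvd.2 h).symm).dvd_of_dvd_mul_left h120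
    have h1 := hom_eq_one_of_dvd hP (actc a) 2 5 3 1 Nat.prime_two Nat.prime_five hdvd g
    have h2 := hactc a g ⟨QuotientGroup.mk ⟨y, hy⟩, hya⟩
    rw [h1] at h2
    exact h2.symm
  haveI : Fact (Nat.Prime 3) := ⟨Nat.prime_three⟩
  obtain ⟨⟨h, g, rfl⟩, hh⟩ := exists_prime_orderOf_dvd_card' (G := (actc a).range) 3 h3
  obtain ⟨k, m, hm, hkm⟩ :=
    Nat.exists_eq_pow_mul_and_not_dvd (orderOf_pos g).ne' 3 (by norm_num)
  set g₀ := g ^ m with hg₀
  have hg₀3 : g₀ ^ 3 ^ k = 1 := by
    rw [hg₀, ← pow_mul, mul_comm, ← hkm, pow_orderOf_eq_one]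
  have hmove : actc a g₀ ≠ 1 := by
    intro h1
    rw [hg₀, map_pow] at h1
    rw [← Subgroup.orderOf_coe] at hh
    have h2 := orderOf_dvd_of_pow_eq_one h1
    rw [hh] at h2
    exact hm h2
  have hfixcount : ∀ v : X, Nat.card (cls v) = 5 →
      Nat.card {w : cls v // act g₀ w.1 = w.1} = 2 ∨ Nat.card {w : cls v // act g₀ w.1 = w.1} = 5 := by
    intro v hv
    have heq : Nat.card {w : cls v // act g₀ w.1 = w.1} =
        Nat.card {w : cls v // actc v g₀ w = w} :=
      Nat.card_congr (Equiv.subtypeEquivRight fun w => by rw [← hactc v g₀ w, Subtype.coe_inj])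
    rw [heq]
    rcases card_fixed_of_five (actc v g₀) k (by rw [← map_pow, hg₀3, map_one]) hv with h1 | h1
    · exact Or.inl h1
    · right
      rw [← hv]
      exact Nat.card_congr (Equiv.subtypeUnivEquiv fun w => by rw [h1]; rfl)
  have hfa : Nat.card {w : cls a // act g₀ w.1 = w.1} = 2 := by
    have heq : Nat.card {w : cls a // act g₀ w.1 = w.1} =
        Nat.card {w : cls a // actc a g₀ w = w} :=
      Nat.card_congr (Equiv.subtypeEquivRight fun w => by rw [← hactc a g₀ w, Subtype.coe_inj])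
    rw [heq]
    rcases card_fixed_of_five (actc a g₀) k (by rw [← map_pow, hg₀3, map_one]) hca with h1 | h1
    · exact h1
    · exact absurd h1 hmove
  -- the fixed points form a subgroup
  have hactmul : ∀ w w' : ↥Y ⧸ F', act g₀ (w * w') = act g₀ w * act g₀ w' := fun w w' =>
    map_mul (QuotientGroup.congr F' F' (α g₀) (hαF g₀)) w w'
  let U : Subgroup (↥Y ⧸ F') :=
    { carrier := {w | act g₀ w = w}
      one_mem' := map_one (QuotientGroup.congr F' F' (α g₀) (hαF g₀))
      mul_mem' := fun {u v} hu hv => by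
        show act g₀ (u * v) = u * v
        rw [hactmul, show act g₀ u = u from hu, show act g₀ v = v from hv]
      inv_mem' := fun {u} hu => by
        show act g₀ u⁻¹ = u⁻¹
        have h1 : act g₀ u⁻¹ = (act g₀ u)⁻¹ := map_inv (QuotientGroup.congr F' F' (α g₀) (hαF g₀)) u
        rw [h1, show act g₀ u = u from hu] }
  have hU : Nat.card ↥U ∣ 16 := hW16 ▸ Subgroup.card_subgroup_dvd_card U
  have hUsum := hsplit fun w => act g₀ w = w
  rw [hone (fun w => act g₀ w = w) (U.one_mem), hfa] at hUsum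
  have hUeq : Nat.card ↥U = Nat.card {w // act g₀ w = w} := rfl
  rw [hUeq, hUsum] at hU
  rcases hfixcount b hcb with h1 | h1 <;> rcases hfixcount c hcc with h2 | h2 <;>
    rw [h1, h2] at hU <;> norm_num at hU

end CfsgLib.InvolutionChar.ThreeInvolutions
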